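import Cfsg.Agent.H52.JThree.Tc.Main.Cert
import Cfsg.Agent.H52.JThree.Tc.Main.ActData

/-!
The checked table of permutations (Main).
-/

set_option autoImplicit false
set_option maxRecDepth 100000

namespace Cfsg.Agent.H52.JThree.Tc.Main

theorem edgejustP0v0 : okEdges log table justP0v0 0 = true := by decide +kernel

theorem edgejustP0v1 : okEdges log table justP0v1 250 = true := by decide +kernel

theorem edgejustP0v2 : okEdges log table justP0v2 500 = true := by decide +kernel

theorem edgejustP0v3 : okEdges log table justP0v3 750 = true := by decide +kernel

theorem edgejustP0v4 : okEdges log table justP0v4 1000 = true := by decide +kernel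

theorem edgejustP0v5 : okEdges log table justP0v5 1250 = true := by decide +kernel

theorem edgejustP0v6 : okEdges log table justP0v6 1500 = true := by decide +kernel

theorem edgejustP0v7 : okEdges log table justP0v7 1750 = true := by decide +kernel

theorem edgejustP0v8 : okEdges log table justP0v8 2000 = true := by decide +kernel

theorem edgejustP0v9 : okEdges log table justP0v9 2250 = true := by decide +kernel

theorem edgejustP0v10 : okEdges log table justP0v10 2500 = true := by decide +kernel

theorem edgejustP0v11 : okEdges log table justP0v11 2750 = true := by decide +kernel

theorem edgejustP0v12 : okEdges log table justP0v12 3000 = true := by decide +kernel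

theorem edgejustP0v13 : okEdges log table justP0v13 3250 = true := by decide +kernel

theorem edgejustP0v14 : okEdges log table justP0v14 3500 = true := by decide +kernel

theorem edgejustP0v15 : okEdges log table justP0v15 3750 = true := by decide +kernel

theorem edgejustP0v16 : okEdges log table justP0v16 4000 = true := by decide +kernel

theorem edgejustP0v17 : okEdges log table justP0v17 4250 = true := by decide +kernel

theorem edgejustP0v18 : okEdges log table justP0v18 4500 = true := by decide +kernel

theorem edgejustP0v19 : okEdges log table justP0v19 4750 = true := by decide +kernel

theorem edgejustP1v0 : okEdges log table justP1v0 5000 = true := by decide +kernel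

theorem edgejustP1v1 : okEdges log table justP1v1 5250 = true := by decide +kernel

theorem edgejustP1v2 : okEdges log table justP1v2 5500 = true := by decide +kernel

theorem edgejustP1v3 : okEdges log table justP1v3 5750 = true := by decide +kernel

theorem edgejustP1v4 : okEdges log table justP1v4 6000 = true := by decide +kernel

theorem edgejustP1v5 : okEdges log table justP1v5 6250 = true := by decide +kernel

theorem edgejustP1v6 : okEdges log table justP1v6 6500 = true := by decide +kernel

theorem edgejustP1v7 : okEdges log table justP1v7 6750 = true := by decide +kernel

theorem edgejustP1v8 : okEdges log table justP1v8 7000 = true := by decide +kernel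

theorem edgejustP1v9 : okEdges log table justP1v9 7250 = true := by decide +kernel

theorem edgejustP1v10 : okEdges log table justP1v10 7500 = true := by decide +kernel

theorem edgejustP1v11 : okEdges log table justP1v11 7750 = true := by decide +kernel

theorem edgejustP1v12 : okEdges log table justP1v12 8000 = true := by decide +kernel

theorem edgejustP1v13 : okEdges log table justP1v13 8250 = true := by decide +kernel

theorem edgejustP1v14 : okEdges log table justP1v14 8500 = true := by decide +kernel

theorem edgejustP1v15 : okEdges log table justP1v15 8750 = true := by decide +kernel

theorem edgejustP1v16 : okEdges log table justP1v16 9000 = true := by decide +kernel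

theorem edgejustP1v17 : okEdges log table justP1v17 9250 = true := by decide +kernel

theorem edgejustP1v18 : okEdges log table justP1v18 9500 = true := by decide +kernel

theorem edgejustP1v19 : okEdges log table justP1v19 9750 = true := by decide +kernel

theorem edgejustP2v0 : okEdges log table justP2v0 10000 = true := by decide +kernel

theorem edgejustP2v1 : okEdges log table justP2v1 10250 = true := by decide +kernel

theorem edgejustP2v2 : okEdges log table justP2v2 10500 = true := by decide +kernel

theorem edgejustP2v3 : okEdges log table justP2v3 10750 = true := by decide +kernel

theorem edgejustP2v4 : okEdges log table justP2v4 11000 = true := by decide +kernel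

theorem edgejustP2v5 : okEdges log table justP2v5 11250 = true := by decide +kernel

theorem edgejustP2v6 : okEdges log table justP2v6 11500 = true := by decide +kernel

theorem edgejustP2v7 : okEdges log table justP2v7 11750 = true := by decide +kernel

theorem edgejustP2v8 : okEdges log table justP2v8 12000 = true := by decide +kernel

theorem edgejustP2v9 : okEdges log table justP2v9 12250 = true := by decide +kernel

theorem edgejustP2v10 : okEdges log table justP2v10 12500 = true := by decide +kernel

theorem edgejustP2v11 : okEdges log table justP2v11 12750 = true := by decide +kernel

theorem edgejustP2v12 : okEdges log table justP2v12 13000 = true := by decide +kernel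

theorem edgejustP2v13 : okEdges log table justP2v13 13250 = true := by decide +kernel

theorem edgejustP2v14 : okEdges log table justP2v14 13500 = true := by decide +kernel

theorem edgejustP2v15 : okEdges log table justP2v15 13750 = true := by decide +kernel

theorem edgejustP2v16 : okEdges log table justP2v16 14000 = true := by decide +kernel

theorem edgejustP2v17 : okEdges log table justP2v17 14250 = true := by decide +kernel

theorem edgejustP2v18 : okEdges log table justP2v18 14500 = true := by decide +kernel

theorem edgejustP2v19 : okEdges log table justP2v19 14750 = true := by decide +kernel

theorem edgejustP3v0 : okEdges log table justP3v0 15000 = true := by decide +kernel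

theorem edgejustP3v1 : okEdges log table justP3v1 15250 = true := by decide +kernel

theorem edgejustP3v2 : okEdges log table justP3v2 15500 = true := by decide +kernel

theorem edgejustP3v3 : okEdges log table justP3v3 15750 = true := by decide +kernel

theorem edgejustP3v4 : okEdges log table justP3v4 16000 = true := by decide +kernel

theorem edgejustP3v5 : okEdges log table justP3v5 16250 = true := by decide +kernel

theorem edgejustP3v6 : okEdges log table justP3v6 16500 = true := by decide +kernel

theorem edgejustP3v7 : okEdges log table justP3v7 16750 = true := by decide +kernel

theorem edgejustP3v8 : okEdges log table justP3v8 17000 = true := by decide +kernel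

theorem edgejustP3v9 : okEdges log table justP3v9 17250 = true := by decide +kernel

theorem edgejustP3v10 : okEdges log table justP3v10 17500 = true := by decide +kernel

theorem edgejustP3v11 : okEdges log table justP3v11 17750 = true := by decide +kernel

theorem edgejustP3v12 : okEdges log table justP3v12 18000 = true := by decide +kernel

theorem edgejustP3v13 : okEdges log table justP3v13 18250 = true := by decide +kernel

theorem edgejustP3v14 : okEdges log table justP3v14 18500 = true := by decide +kernel

theorem edgejustP3v15 : okEdges log table justP3v15 18750 = true := by decide +kernel

theorem edgejustP3v16 : okEdges log table justP3v16 19000 = true := by decide +kernel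

theorem edgejustP3v17 : okEdges log table justP3v17 19250 = true := by decide +kernel

theorem edgejustP3v18 : okEdges log table justP3v18 19500 = true := by decide +kernel

theorem edge_ok : ∀ p ∈ pointRuns, okEdges log table p.1 p.2 = true := by
  simp only [pointRuns, List.forall_mem_append, List.forall_mem_cons, List.not_mem_nil, IsEmpty.forall_iff, implies_true, and_true]
  exact ⟨⟨⟨⟨edgejustP0v0, edgejustP0v1, edgejustP0v2, edgejustP0v3, edgejustP0v4, edgejustP0v5, edgejustP0v6, edgejustP0v7, edgejustP0v8, edgejustP0v9, edgejustP0v10, edgejustP0v11, edgejustP0v12, edgejustP0v13, edgejustP0v14, edgejustP0v15, edgejustP0v16, edgejustP0v17, edgejustP0v18, edgejustP0v19⟩, ⟨edgejustP1v0, edgejustP1v1, edgejustP1v2, edgejustP1v3, edgejustP1v4, edgejustP1v5, edgejustP1v6, edgejustP1v7, edgejustP1v8, edgejustP1v9, edgejustP1v10, edgejustP1v11, edgejustP1v12, edgejustP1v13, edgejustP1v14, edgejustP1v15, edgejustP1v16, edgejustP1v17, edgejustP1v18, edgejustP1v19⟩⟩, ⟨edgejustP2v0, edgejustP2v1, edgejustP2v2, edgejustP2v3, edgejustP2v4, edgejustP2v5, edgejustP2v6, edgejustP2v7, edgejustP2v8, edgejustP2v9, edgejustP2v10, edgejustP2v11, edgejustP2v12, edgejustP2v13, edgejustP2v14, edgejustP2v15, edgejustP2v16, edgejustP2v17,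 edgejustP2v18, edgejustP2v19⟩⟩, ⟨edgejustP3v0, edgejustP3v1, edgejustP3v2, edgejustP3v3, edgejustP3v4, edgejustP3v5, edgejustP3v6, edgejustP3v7, edgejustP3v8, edgejustP3v9, edgejustP3v10, edgejustP3v11, edgejustP3v12, edgejustP3v13, edgejustP3v14, edgejustP3v15, edgejustP3v16, edgejustP3v17, edgejustP3v18⟩⟩

theorem act0 : okActs log table 0 500 = true := by decide +kernel

theorem act1 : okActs log table 500 500 = true := by decide +kernel

theorem act2 : okActs log table 1000 500 = true := by decide +kernel

theorem act3 : okActs log table 1500 500 = true := by decide +kernel

theorem act4 : okActs log table 2000 500 = true := by decide +kernel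

theorem act5 : okActs log table 2500 500 = true := by decide +kernel

theorem act6 : okActs log table 3000 500 = true := by decide +kernel

theorem act7 : okActs log table 3500 500 = true := by decide +kernel

theorem act8 : okActs log table 4000 500 = true := by decide +kernel

theorem act9 : okActs log table 4500 500 = true := by decide +kernel

theorem act10 : okActs log table 5000 500 = true := by decide +kernel

theorem act11 : okActs log table 5500 500 = true := by decide +kernel

theorem act12 : okActs log table 6000 500 = true := by decide +kernel

theorem act13 : okActs log table 6500 500 = true := by decide +kernel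

theorem act14 : okActs log table 7000 500 = true := by decide +kernel

theorem act15 : okActs log table 7500 500 = true := by decide +kernel

theorem act16 : okActs log table 8000 500 = true := by decide +kernel

theorem act17 : okActs log table 8500 500 = true := by decide +kernel

theorem act18 : okActs log table 9000 500 = true := by decide +kernel

theorem act19 : okActs log table 9500 500 = true := by decide +kernel

theorem act20 : okActs log table 10000 500 = true := by decide +kernel

theorem act21 : okActs log table 10500 500 = true := by decide +kernel

theorem act22 : okActs log table 11000 500 = true := by decide +kernel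

theorem act23 : okActs log table 11500 500 = true := by decide +kernel

theorem act24 : okActs log table 12000 500 = true := by decide +kernel

theorem act25 : okActs log table 12500 500 = true := by decide +kernel

theorem act26 : okActs log table 13000 500 = true := by decide +kernel

theorem act27 : okActs log table 13500 500 = true := by decide +kernel

theorem act28 : okActs log table 14000 500 = true := by decide +kernel

theorem act29 : okActs log table 14500 500 = true := by decide +kernel

theorem act30 : okActs log table 15000 500 = true := by decide +kernel

theorem act31 : okActs log table 15500 500 = true := by decide +kernel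

theorem act32 : okActs log table 16000 500 = true := by decide +kernel

theorem act33 : okActs log table 16500 500 = true := by decide +kernel

theorem act34 : okActs log table 17000 500 = true := by decide +kernel

theorem act35 : okActs log table 17500 500 = true := by decide +kernel

theorem act36 : okActs log table 18000 500 = true := by decide +kernel

theorem act37 : okActs log table 18500 500 = true := by decide +kernel

theorem act38 : okActs log table 19000 500 = true := by decide +kernel

theorem act39 : okActs log table 19500 30 = true := by decide +kernel

theorem act_ok : ∀ b < log.numPts, okAct log table b = true := by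
  intro b hb
  have hn : log.numPts = 19530 := rfl
  rw [hn] at hb
  rcases Nat.lt_or_ge b 500 with h0 | h0
  · exact okActs_spec log table 0 500 act0 b (by omega) (by omega)
  rcases Nat.lt_or_ge b 1000 with h1 | h1
  · exact okActs_spec log table 500 500 act1 b (by omega) (by omega)
  rcases Nat.lt_or_ge b 1500 with h2 | h2
  · exact okActs_spec log table 1000 500 act2 b (by omega) (by omega)
  rcases Nat.lt_or_ge b 2000 with h3 | h3
  · exact okActs_spec log table 1500 500 act3 b (by omega) (by omega)
  rcases Nat.lt_or_ge b 2500 with h4 | h4
  · exact okActs_spec log table 2000 500 act4 b (by omega) (by omega)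
  rcases Nat.lt_or_ge b 3000 with h5 | h5
  · exact okActs_spec log table 2500 500 act5 b (by omega) (by omega)
  rcases Nat.lt_or_ge b 3500 with h6 | h6
  · exact okActs_spec log table 3000 500 act6 b (by omega) (by omega)
  rcases Nat.lt_or_ge b 4000 with h7 | h7
  · exact okActs_spec log table 3500 500 act7 b (by omega) (by omega)
  rcases Nat.lt_or_ge b 4500 with h8 | h8
  · exact okActs_spec log table 4000 500 act8 b (by omega) (by omega)
  rcases Nat.lt_or_ge b 5000 with h9 | h9
  · exact okActs_spec log table 4500 500 act9 b (by omega) (by omega)
  rcases Nat.lt_or_ge b 5500 with h10 | h10
  · exact okActs_spec log table 5000 500 act10 b (by omega) (by omega)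
  rcases Nat.lt_or_ge b 6000 with h11 | h11
  · exact okActs_spec log table 5500 500 act11 b (by omega) (by omega)
  rcases Nat.lt_or_ge b 6500 with h12 | h12
  · exact okActs_spec log table 6000 500 act12 b (by omega) (by omega)
  rcases Nat.lt_or_ge b 7000 with h13 | h13
  · exact okActs_spec log table 6500 500 act13 b (by omega) (by omega)
  rcases Nat.lt_or_ge b 7500 with h14 | h14
  · exact okActs_spec log table 7000 500 act14 b (by omega) (by omega)
  rcases Nat.lt_or_ge b 8000 with h15 | h15
  · exact okActs_spec log table 7500 500 act15 b (by omega) (by omega)
  rcases Nat.lt_or_ge b 8500 with h16 | h16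
  · exact okActs_spec log table 8000 500 act16 b (by omega) (by omega)
  rcases Nat.lt_or_ge b 9000 with h17 | h17
  · exact okActs_spec log table 8500 500 act17 b (by omega) (by omega)
  rcases Nat.lt_or_ge b 9500 with h18 | h18
  · exact okActs_spec log table 9000 500 act18 b (by omega) (by omega)
  rcases Nat.lt_or_ge b 10000 with h19 | h19
  · exact okActs_spec log table 9500 500 act19 b (by omega) (by omega)
  rcases Nat.lt_or_ge b 10500 with h20 | h20
  · exact okActs_spec log table 10000 500 act20 b (by omega) (by omega)
  rcases Nat.lt_or_ge b 11000 with h21 | h21
  · exact okActs_spec log table 10500 500 act21 b (by omega) (by omega)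
  rcases Nat.lt_or_ge b 11500 with h22 | h22
  · exact okActs_spec log table 11000 500 act22 b (by omega) (by omega)
  rcases Nat.lt_or_ge b 12000 with h23 | h23
  · exact okActs_spec log table 11500 500 act23 b (by omega) (by omega)
  rcases Nat.lt_or_ge b 12500 with h24 | h24
  · exact okActs_spec log table 12000 500 act24 b (by omega) (by omega)
  rcases Nat.lt_or_ge b 13000 with h25 | h25
  · exact okActs_spec log table 12500 500 act25 b (by omega) (by omega)
  rcases Nat.lt_or_ge b 13500 with h26 | h26
  · exact okActs_spec log table 13000 500 act26 b (by omega) (by omega)
  rcases Nat.lt_or_ge b 14000 with h27 | h27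
  · exact okActs_spec log table 13500 500 act27 b (by omega) (by omega)
  rcases Nat.lt_or_ge b 14500 with h28 | h28
  · exact okActs_spec log table 14000 500 act28 b (by omega) (by omega)
  rcases Nat.lt_or_ge b 15000 with h29 | h29
  · exact okActs_spec log table 14500 500 act29 b (by omega) (by omega)
  rcases Nat.lt_or_ge b 15500 with h30 | h30
  · exact okActs_spec log table 15000 500 act30 b (by omega) (by omega)
  rcases Nat.lt_or_ge b 16000 with h31 | h31
  · exact okActs_spec log table 15500 500 act31 b (by omega) (by omega)
  rcases Nat.lt_or_ge b 16500 with h32 | h32
  · exact okActs_spec log table 16000 500 act32 b (by omega) (by omega)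
  rcases Nat.lt_or_ge b 17000 with h33 | h33
  · exact okActs_spec log table 16500 500 act33 b (by omega) (by omega)
  rcases Nat.lt_or_ge b 17500 with h34 | h34
  · exact okActs_spec log table 17000 500 act34 b (by omega) (by omega)
  rcases Nat.lt_or_ge b 18000 with h35 | h35
  · exact okActs_spec log table 17500 500 act35 b (by omega) (by omega)
  rcases Nat.lt_or_ge b 18500 with h36 | h36
  · exact okActs_spec log table 18000 500 act36 b (by omega) (by omega)
  rcases Nat.lt_or_ge b 19000 with h37 | h37
  · exact okActs_spec log table 18500 500 act37 b (by omega) (by omega)
  rcases Nat.lt_or_ge b 19500 with h38 | h38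
  · exact okActs_spec log table 19000 500 act38 b (by omega) (by omega)
  exact okActs_spec log table 19500 30 act39 b (by omega) (by omega)

/-- The checked table. -/
theorem checkedAct : CheckedAct log table where
  edge b hb := by
    obtain ⟨p, hp, h1, h2⟩ := checked.ps_cover b hb
    exact okEdges_spec log table p.1 p.2 (edge_ok p hp) b h1 h2
  good := act_ok
  rep := by decide +kernel
  zero_live := checked.zero_live
  pos := checked.pos
  small_le := by decide +kernel
  sub := by decide +kernel

end Cfsg.Agent.H52.JThree.Tc.Main
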