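import Cfsg.Agent.H52.JThree.Tc.Main.F0
import Cfsg.Agent.H52.JThree.Tc.Main.F1
import Cfsg.Agent.H52.JThree.Tc.Main.F2
import Cfsg.Agent.H52.JThree.Tc.Main.F3
import Cfsg.Agent.H52.JThree.Tc.Main.F4
import Cfsg.Agent.H52.JThree.Tc.Main.F5
import Cfsg.Agent.H52.JThree.Tc.Main.F6
import Cfsg.Agent.H52.JThree.Tc.Main.F7
import Cfsg.Agent.H52.JThree.Tc.Main.F8
import Cfsg.Agent.H52.JThree.Tc.Main.F9
import Cfsg.Agent.H52.JThree.Tc.Main.F10
import Cfsg.Agent.H52.JThree.Tc.Main.F11
import Cfsg.Agent.H52.JThree.Tc.Main.F12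
import Cfsg.Agent.H52.JThree.Tc.Main.F13
import Cfsg.Agent.H52.JThree.Tc.Main.F14
import Cfsg.Agent.H52.JThree.Tc.Main.F15
import Cfsg.Agent.H52.JThree.Tc.Main.P0
import Cfsg.Agent.H52.JThree.Tc.Main.P1
import Cfsg.Agent.H52.JThree.Tc.Main.P2
import Cfsg.Agent.H52.JThree.Tc.Main.P3
import Cfsg.Agent.H52.JThree.Tc.Sound

/-!
The checked log (Main).
-/

set_option autoImplicit false
set_option maxRecDepth 100000

namespace Cfsg.Agent.H52.JThree.Tc.Main

def factRuns : List (List ℕ × ℕ) :=
  [(justF0v0, 0), (justF0v1, 250), (justF0v2, 500), (justF0v3, 750), (justF0v4, 1000), (justF0v5, 1250), (justF0v6, 1500), (justF0v7, 1750), (justF0v8, 2000), (justF0v9, 2250), (justF0v10, 2500), (justF0v11, 2750), (justF0v12, 3000), (justF0v13, 3250), (justF0v14, 3500), (justF0v15, 3750), (justF0v16, 4000), (justF0v17, 4250), (justF0v18, 4500), (justF0v19, 4750)] ++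
  [(justF1v0, 5000), (justF1v1, 5250), (justF1v2, 5500), (justF1v3, 5750), (justF1v4, 6000), (justF1v5, 6250), (justF1v6, 6500), (justF1v7, 6750), (justF1v8, 7000), (justF1v9, 7250), (justF1v10, 7500), (justF1v11, 7750), (justF1v12, 8000), (justF1v13, 8250), (justF1v14, 8500), (justF1v15, 8750), (justF1v16, 9000), (justF1v17, 9250), (justF1v18, 9500), (justF1v19, 9750)] ++
  [(justF2v0, 10000), (justF2v1, 10250), (justF2v2, 10500), (justF2v3, 10750), (justF2v4, 11000), (justF2v5, 11250), (justF2v6, 11500), (justF2v7, 11750), (justF2v8, 12000), (justF2v9, 12250), (justF2v10, 12500), (justF2v11, 12750), (justF2v12, 13000), (justF2v13, 13250), (justF2v14, 13500), (justF2v15, 13750), (justF2v16, 14000), (justF2v17, 14250), (justF2v18, 14500), (justF2v19, 14750)] ++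
  [(justF3v0, 15000), (justF3v1, 15250), (justF3v2, 15500), (justF3v3, 15750), (justF3v4, 16000), (justF3v5, 16250), (justF3v6, 16500), (justF3v7, 16750), (justF3v8, 17000), (justF3v9, 17250), (justF3v10, 17500), (justF3v11, 17750), (justF3v12, 18000), (justF3v13, 18250), (justF3v14, 18500), (justF3v15, 18750), (justF3v16, 19000), (justF3v17, 19250), (justF3v18, 19500), (justF3v19, 19750)] ++
  [(justF4v0, 20000), (justF4v1, 20250), (justF4v2, 20500), (justF4v3, 20750), (justF4v4, 21000), (justF4v5, 21250), (justF4v6, 21500), (justF4v7, 21750), (justF4v8, 22000), (justF4v9, 22250), (justF4v10, 22500), (justF4v11, 22750), (justF4v12, 23000), (justF4v13, 23250), (justF4v14, 23500), (justF4v15, 23750), (justF4v16, 24000), (justF4v17, 24250), (justF4v18, 24500), (justF4v19, 24750)] ++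
  [(justF5v0, 25000), (justF5v1, 25250), (justF5v2, 25500), (justF5v3, 25750), (justF5v4, 26000), (justF5v5, 26250), (justF5v6, 26500), (justF5v7, 26750), (justF5v8, 27000), (justF5v9, 27250), (justF5v10, 27500), (justF5v11, 27750), (justF5v12, 28000), (justF5v13, 28250), (justF5v14, 28500), (justF5v15, 28750), (justF5v16, 29000), (justF5v17, 29250), (justF5v18, 29500), (justF5v19, 29750)] ++
  [(justF6v0, 30000), (justF6v1, 30250), (justF6v2, 30500), (justF6v3, 30750), (justF6v4, 31000), (justF6v5, 31250), (justF6v6, 31500), (justF6v7, 31750), (justF6v8, 32000), (justF6v9, 32250), (justF6v10, 32500), (justF6v11, 32750), (justF6v12, 33000), (justF6v13, 33250), (justF6v14, 33500), (justF6v15, 33750), (justF6v16, 34000), (justF6v17, 34250), (justF6v18, 34500), (justF6v19, 34750)] ++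
  [(justF7v0, 35000), (justF7v1, 35250), (justF7v2, 35500), (justF7v3, 35750), (justF7v4, 36000), (justF7v5, 36250), (justF7v6, 36500), (justF7v7, 36750), (justF7v8, 37000), (justF7v9, 37250), (justF7v10, 37500), (justF7v11, 37750), (justF7v12, 38000), (justF7v13, 38250), (justF7v14, 38500), (justF7v15, 38750), (justF7v16, 39000), (justF7v17, 39250), (justF7v18, 39500), (justF7v19, 39750)] ++
  [(justF8v0, 40000), (justF8v1, 40250), (justF8v2, 40500), (justF8v3, 40750), (justF8v4, 41000), (justF8v5, 41250), (justF8v6, 41500), (justF8v7, 41750), (justF8v8, 42000), (justF8v9, 42250), (justF8v10, 42500), (justF8v11, 42750), (justF8v12, 43000), (justF8v13, 43250), (justF8v14, 43500), (justF8v15, 43750), (justF8v16, 44000), (justF8v17, 44250), (justF8v18, 44500), (justF8v19, 44750)] ++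
  [(justF9v0, 45000), (justF9v1, 45250), (justF9v2, 45500), (justF9v3, 45750), (justF9v4, 46000), (justF9v5, 46250), (justF9v6, 46500), (justF9v7, 46750), (justF9v8, 47000), (justF9v9, 47250), (justF9v10, 47500), (justF9v11, 47750), (justF9v12, 48000), (justF9v13, 48250), (justF9v14, 48500), (justF9v15, 48750), (justF9v16, 49000), (justF9v17, 49250), (justF9v18, 49500), (justF9v19, 49750)] ++
  [(justF10v0, 50000), (justF10v1, 50250), (justF10v2, 50500), (justF10v3, 50750), (justF10v4, 51000), (justF10v5, 51250), (justF10v6, 51500), (justF10v7, 51750), (justF10v8, 52000), (justF10v9, 52250), (justF10v10, 52500), (justF10v11, 52750), (justF10v12, 53000), (justF10v13, 53250), (justF10v14, 53500), (justF10v15, 53750), (justF10v16, 54000), (justF10v17, 54250), (justF10v18, 54500), (justF10v19, 54750)] ++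
  [(justF11v0, 55000), (justF11v1, 55250), (justF11v2, 55500), (justF11v3, 55750), (justF11v4, 56000), (justF11v5, 56250), (justF11v6, 56500), (justF11v7, 56750), (justF11v8, 57000), (justF11v9, 57250), (justF11v10, 57500), (justF11v11, 57750), (justF11v12, 58000), (justF11v13, 58250), (justF11v14, 58500), (justF11v15, 58750), (justF11v16, 59000), (justF11v17, 59250), (justF11v18, 59500), (justF11v19, 59750)] ++
  [(justF12v0, 60000), (justF12v1, 60250), (justF12v2, 60500), (justF12v3, 60750), (justF12v4, 61000), (justF12v5, 61250), (justF12v6, 61500), (justF12v7, 61750), (justF12v8, 62000), (justF12v9, 62250), (justF12v10, 62500), (justF12v11, 62750), (justF12v12, 63000), (justF12v13, 63250), (justF12v14, 63500), (justF12v15, 63750), (justF12v16, 64000), (justF12v17, 64250), (justF12v18, 64500), (justF12v19, 64750)] ++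
  [(justF13v0, 65000), (justF13v1, 65250), (justF13v2, 65500), (justF13v3, 65750), (justF13v4, 66000), (justF13v5, 66250), (justF13v6, 66500), (justF13v7, 66750), (justF13v8, 67000), (justF13v9, 67250), (justF13v10, 67500), (justF13v11, 67750), (justF13v12, 68000), (justF13v13, 68250), (justF13v14, 68500), (justF13v15, 68750), (justF13v16, 69000), (justF13v17, 69250), (justF13v18, 69500), (justF13v19, 69750)] ++
  [(justF14v0, 70000), (justF14v1, 70250), (justF14v2, 70500), (justF14v3, 70750), (justF14v4, 71000), (justF14v5, 71250), (justF14v6, 71500), (justF14v7, 71750), (justF14v8, 72000), (justF14v9, 72250), (justF14v10, 72500), (justF14v11, 72750), (justF14v12, 73000), (justF14v13, 73250), (justF14v14, 73500), (justF14v15, 73750), (justF14v16, 74000), (justF14v17, 74250), (justF14v18, 74500), (justF14v19, 74750)] ++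
  [(justF15v0, 75000), (justF15v1, 75250), (justF15v2, 75500), (justF15v3, 75750), (justF15v4, 76000), (justF15v5, 76250), (justF15v6, 76500), (justF15v7, 76750), (justF15v8, 77000), (justF15v9, 77250), (justF15v10, 77500), (justF15v11, 77750), (justF15v12, 78000), (justF15v13, 78250)]

def pointRuns : List (List ℕ × ℕ) :=
  [(justP0v0, 0), (justP0v1, 250), (justP0v2, 500), (justP0v3, 750), (justP0v4, 1000), (justP0v5, 1250), (justP0v6, 1500), (justP0v7, 1750), (justP0v8, 2000), (justP0v9, 2250), (justP0v10, 2500), (justP0v11, 2750), (justP0v12, 3000), (justP0v13, 3250), (justP0v14, 3500), (justP0v15, 3750), (justP0v16, 4000), (justP0v17, 4250), (justP0v18, 4500), (justP0v19, 4750)] ++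
  [(justP1v0, 5000), (justP1v1, 5250), (justP1v2, 5500), (justP1v3, 5750), (justP1v4, 6000), (justP1v5, 6250), (justP1v6, 6500), (justP1v7, 6750), (justP1v8, 7000), (justP1v9, 7250), (justP1v10, 7500), (justP1v11, 7750), (justP1v12, 8000), (justP1v13, 8250), (justP1v14, 8500), (justP1v15, 8750), (justP1v16, 9000), (justP1v17, 9250), (justP1v18, 9500), (justP1v19, 9750)] ++
  [(justP2v0, 10000), (justP2v1, 10250), (justP2v2, 10500), (justP2v3, 10750), (justP2v4, 11000), (justP2v5, 11250), (justP2v6, 11500), (justP2v7, 11750), (justP2v8, 12000), (justP2v9, 12250), (justP2v10, 12500), (justP2v11, 12750), (justP2v12, 13000), (justP2v13, 13250), (justP2v14, 13500), (justP2v15, 13750), (justP2v16, 14000), (justP2v17, 14250), (justP2v18, 14500), (justP2v19, 14750)] ++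
  [(justP3v0, 15000), (justP3v1, 15250), (justP3v2, 15500), (justP3v3, 15750), (justP3v4, 16000), (justP3v5, 16250), (justP3v6, 16500), (justP3v7, 16750), (justP3v8, 17000), (justP3v9, 17250), (justP3v10, 17500), (justP3v11, 17750), (justP3v12, 18000), (justP3v13, 18250), (justP3v14, 18500), (justP3v15, 18750), (justP3v16, 19000), (justP3v17, 19250), (justP3v18, 19500)]

theorem factRuns_ok : ∀ p ∈ factRuns, okFrom log p.1 p.2 = true := by
  unfold factRuns
  simp only [List.forall_mem_append]
  exact ⟨⟨⟨⟨⟨⟨⟨⟨⟨⟨⟨⟨⟨⟨⟨allF0, allF1⟩, allF2⟩, allF3⟩, allF4⟩, allF5⟩, allF6⟩, allF7⟩, allF8⟩, allF9⟩, allF10⟩, allF11⟩, allF12⟩, allF13⟩, allF14⟩, allF15⟩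

theorem pointRuns_ok : ∀ p ∈ pointRuns, okPts log p.1 p.2 = true := by
  unfold pointRuns
  simp only [List.forall_mem_append]
  exact ⟨⟨⟨allP0, allP1⟩, allP2⟩, allP3⟩

theorem factRuns_covers : covers log.numFacts (factRuns.map fun p => (p.1.length, p.2)) 0 = true := by
  decide +kernel

theorem pointRuns_covers : covers log.numPts (pointRuns.map fun p => (p.1.length, p.2)) 0 = true := by
  decide +kernel

/-- The checked log. -/
def checked : Checked log where
  fs := factRuns
  fs_ok := factRuns_ok
  fs_cover i hi := covers_spec _ _ _ factRuns_covers i (Nat.zero_le i) hi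
  ps := pointRuns
  ps_ok := pointRuns_ok
  ps_cover i hi := covers_spec _ _ _ pointRuns_covers i (Nat.zero_le i) hi
  zero_live := by decide +kernel
  pos := by decide +kernel

theorem live_count : (Model.liveList log).length = 18468 := by decide +kernel

end Cfsg.Agent.H52.JThree.Tc.Main
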